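import Groth.Agent.Lib.Lie3.Kernel
import Mathlib.RingTheory.MvPolynomial.MonomialOrder
import Mathlib.Data.Finsupp.MonomialOrder
import Mathlib.RingTheory.Localization.FractionRing

/-!
# The two ideals `J` and `L` and their intersection
-/

set_option autoImplicit false

namespace GrothLib.Lie3

open MvPolynomial

universe u

variable (A : Type u) [CommRing A]

local notation "T" => MvPolynomial (Fin 9) A

/-- The linear ideal `(u, v, w)`. -/
noncomputable def L : Ideal T := Ideal.span {X 0, X 1, X 2}

/-- The ideal of the three quadrics. -/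
noncomputable def I : Ideal T := Ideal.span {q1 A, q2 A, q3 A}

theorem I_le_J : I A ≤ J A :=
  Ideal.span_mono (by intro x; simp only [Set.mem_insert_iff, Set.mem_singleton_iff]; tauto)

theorem q1_mem : q1 A ∈ I A := Ideal.subset_span (by simp)
theorem q2_mem : q2 A ∈ I A := Ideal.subset_span (by simp)
theorem q3_mem : q3 A ∈ I A := Ideal.subset_span (by simp)
theorem dt_mem : dt A ∈ J A := Ideal.subset_span (by simp)
theorem X0_mem : (X 0 : T) ∈ L A := Ideal.subset_span (by simp)
theorem X1_mem : (X 1 : T) ∈ L A := Ideal.subset_span (by simp)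
theorem X2_mem : (X 2 : T) ∈ L A := Ideal.subset_span (by simp)

theorem I_le_L : I A ≤ L A := by
  rw [I, Ideal.span_le]
  rintro x (rfl | rfl | rfl)
  · rw [q1]
    exact sub_mem (add_mem (Ideal.mul_mem_right _ _ (X0_mem A)) (Ideal.mul_mem_right _ _ (X2_mem A)))
      (Ideal.mul_mem_right _ _ (X1_mem A))
  · rw [q2]
    exact sub_mem (sub_mem (Ideal.mul_mem_left _ _ (X2_mem A)) (Ideal.mul_mem_right _ _ (X1_mem A)))
      (Ideal.mul_mem_right _ _ (X0_mem A))
  · rw [q3]
    exact sub_mem (add_mem (sub_mem (Ideal.mul_mem_right _ _ (X2_mem A))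
      (Ideal.mul_mem_right _ _ (X0_mem A))) (Ideal.mul_mem_right _ _ (X0_mem A)))
      (Ideal.mul_mem_left _ _ (X1_mem A))

/-! ### Spanning by standard monomials -/

/-- The degree in the three last variables. -/
def deg3 (m : Fin 9 →₀ ℕ) : ℕ := m 6 + m 7 + m 8

/-- Polynomials congruent to a standard one modulo `J`. -/
noncomputable def N : Submodule A T :=
  (J A).restrictScalars A ⊔ Submodule.span A {p : T | ∃ m, Std m ∧ p = monomial m 1}

variable {A}

theorem mon_mul_X (m : Fin 9 →₀ ℕ) (j : Fin 9) :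
    (monomial m (1 : A)) * X j = monomial (m + Finsupp.single j 1) 1 := by
  rw [X, monomial_mul, mul_one]

theorem monomial_split {m : Fin 9 →₀ ℕ} {j : Fin 9} (hj : m j ≠ 0) :
    m = (m - Finsupp.single j 1) + Finsupp.single j 1 := by
  ext k
  rcases eq_or_ne k j with rfl | hk
  · simp
    omega
  · simp [Finsupp.single_eq_of_ne hk]

/-- Products of a monomial with variables, as monomials of the same or lower degree. -/
theorem mem_N : ∀ (n : ℕ) (m : Fin 9 →₀ ℕ), deg3 m ≤ n → (monomial m 1 : T) ∈ N A := by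
  intro n
  induction n using Nat.strong_induction_on with
  | _ n ih =>
    intro m hm
    have low : ∀ (m' : Fin 9 →₀ ℕ), deg3 m' < deg3 m → (monomial m' 1 : T) ∈ N A := fun m' h =>
      ih _ (h.trans_le hm) m' le_rfl
    have red : ∀ {p r : T}, p + r ∈ J A → r ∈ N A → p ∈ N A := by
      intro p r h hr
      rw [← add_sub_cancel_right p r]
      exact sub_mem (Submodule.mem_sup_left h) hr
    by_cases hstd : Std m
    · exact Submodule.mem_sup_right (Submodule.subset_span ⟨m, hstd, rfl⟩)
    rw [Std, not_and_or, not_and_or, not_and_or] at hstd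
    simp only [not_or] at hstd
    rcases hstd with ⟨ha, hb⟩ | ⟨ha, hb⟩ | ⟨ha, hb⟩ | ⟨ha, hb, hc⟩
    · -- v g
      have e := monomial_split hb
      set m1 := m - Finsupp.single 6 1 with hm1
      have ha1 : m1 1 ≠ 0 := by simpa [hm1] using ha
      have e1 := monomial_split ha1
      set m2 := m1 - Finsupp.single 1 1 with hm2
      have hd : deg3 m = deg3 m2 + 1 := by
        rw [e, e1]
        simp [deg3]
        omega
      refine red (r := -(monomial m2 1 * X 0 * X 3 + monomial m2 1 * X 2 * X 4)) ?_ (neg_mem ?_)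
      · convert (J A).mul_mem_left (-(monomial m2 1)) (I_le_J A (q1_mem A)) using 1
        rw [e, e1, ← mon_mul_X, ← mon_mul_X, q1]
        ring
      · rw [mon_mul_X, mon_mul_X, mon_mul_X, mon_mul_X]
        exact add_mem (low _ (by simp [deg3] at hd ⊢; omega)) (low _ (by simp [deg3] at hd ⊢; omega))
    · -- u e
      have e := monomial_split hb
      set m1 := m - Finsupp.single 7 1 with hm1
      have ha1 : m1 0 ≠ 0 := by simpa [hm1] using ha
      have e1 := monomial_split ha1
      set m2 := m1 - Finsupp.single 0 1 with hm2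
      have hd : deg3 m = deg3 m2 + 1 := by
        rw [e, e1]
        simp [deg3]
        omega
      refine red (r := -(monomial m2 1 * X 5 * X 2 - monomial m2 1 * X 1 * X 3)) ?_ (neg_mem ?_)
      · convert (J A).mul_mem_left (-(monomial m2 1)) (I_le_J A (q2_mem A)) using 1
        rw [e, e1, ← mon_mul_X, ← mon_mul_X, q2]
        ring
      · rw [mon_mul_X, mon_mul_X, mon_mul_X, mon_mul_X]
        exact sub_mem (low _ (by simp [deg3] at hd ⊢; omega)) (low _ (by simp [deg3] at hd ⊢; omega))
    · -- w c
      have e := monomial_split hb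
      set m1 := m - Finsupp.single 8 1 with hm1
      have ha1 : m1 2 ≠ 0 := by simpa [hm1] using ha
      have e1 := monomial_split ha1
      set m2 := m1 - Finsupp.single 2 1 with hm2
      have hd : deg3 m = deg3 m2 + 1 := by
        rw [e, e1]
        simp [deg3]
        omega
      refine red (r := -(monomial m2 1 * X 0 * X 1 - monomial m2 1 * X 0 * X 5
        + monomial m2 1 * X 4 * X 1)) ?_ (neg_mem ?_)
      · convert (J A).mul_mem_left (monomial m2 1) (I_le_J A (q3_mem A)) using 1
        rw [e, e1, ← mon_mul_X, ← mon_mul_X, q3]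
        ring
      · simp only [mon_mul_X]
        exact add_mem (sub_mem (low _ (by simp [deg3] at hd ⊢; omega))
          (low _ (by simp [deg3] at hd ⊢; omega))) (low _ (by simp [deg3] at hd ⊢; omega))
    · -- g e c
      have e := monomial_split hc
      set m1 := m - Finsupp.single 8 1 with hm1
      have hb1 : m1 7 ≠ 0 := by simpa [hm1] using hb
      have e1 := monomial_split hb1
      set m2 := m1 - Finsupp.single 7 1 with hm2
      have ha2 : m2 6 ≠ 0 := by simpa [hm1, hm2] using ha
      have e2 := monomial_split ha2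
      set m3 := m2 - Finsupp.single 6 1 with hm3
      have hd : deg3 m = deg3 m3 + 3 := by
        rw [e, e1, e2]
        simp [deg3]
        omega
      let M : T := monomial m3 1
      refine red (r := M * X 8 * X 3 * X 3 - M * X 6 * X 5 * X 1 + M * X 6 * X 5 * X 5
        - M * X 7 * X 4 * X 4 - M * X 3 * X 5 * X 4 - M * X 3 * X 5 * X 4 + M * X 4 * X 3 * X 1)
        ?_ ?_
      · convert (J A).mul_mem_left (-M) (dt_mem A) using 1
        rw [e, e1, e2, ← mon_mul_X, ← mon_mul_X, ← mon_mul_X, dt]
        ring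
      · simp only [M, mon_mul_X]
        have l : ∀ a b c : Fin 9,
            deg3 (m3 + Finsupp.single a 1 + Finsupp.single b 1 + Finsupp.single c 1) < deg3 m →
            (monomial (m3 + Finsupp.single a 1 + Finsupp.single b 1 + Finsupp.single c 1) 1 : T) ∈ N A :=
          fun a b c => low _
        refine add_mem (sub_mem (sub_mem (sub_mem (add_mem (sub_mem ?_ ?_) ?_) ?_) ?_) ?_) ?_ <;>
          exact l _ _ _ (by simp [deg3] at hd ⊢; omega)

theorem exists_std (p : T) : ∃ r, StdP r ∧ p - r ∈ J A := by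
  have h : p ∈ N A := by
    rw [p.as_sum]
    refine sum_mem fun m _ => ?_
    rw [show (monomial m (p.coeff m) : T) = p.coeff m • monomial m 1 by simp [smul_monomial]]
    exact Submodule.smul_mem _ _ (mem_N _ m le_rfl)
  obtain ⟨j, hj, r, hr, rfl⟩ := Submodule.mem_sup.mp h
  refine ⟨r, ?_, by simpa using hj⟩
  clear h hj
  classical
  induction hr using Submodule.span_induction with
  | mem x hx =>
    obtain ⟨m, hm, rfl⟩ := hx
    intro n hn
    rw [Finset.mem_singleton.mp (support_monomial_subset hn)]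
    exact hm
  | zero => intro n hn; simp at hn
  | add a b _ _ ha hb => exact fun n hn => (Finset.mem_union.mp (support_add hn)).elim (ha n) (hb n)
  | smul c a _ ha => exact fun n hn => ha n (Finsupp.support_smul hn)

theorem stdP_sub {a b : T} (ha : StdP a) (hb : StdP b) : StdP (a - b) := fun n hn => by
  classical
  exact (Finset.mem_union.mp (support_sub _ a b hn)).elim (ha n) (hb n)

theorem stdP_map {B : Type u} [CommRing B] (f : A →+* B) {a : T} (ha : StdP a) : StdP (map f a) :=
  fun n hn => ha n (support_map_subset f a hn)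

theorem map_gen {B : Type u} [CommRing B] (f : A →+* B) :
    map f (q1 A) = q1 B ∧ map f (q2 A) = q2 B ∧ map f (q3 A) = q3 B ∧ map f (dt A) = dt B := by
  simp [q1, q2, q3, dt]

theorem map_mem_J {B : Type u} [CommRing B] (f : A →+* B) {x : T} (hx : x ∈ J A) :
    map f x ∈ J B := by
  obtain ⟨h1, h2, h3, h4⟩ := map_gen f
  have : (J A).map (map f) ≤ J B := by
    rw [J, Ideal.map_span, Ideal.span_le]
    rintro y ⟨x, rfl | rfl | rfl | rfl, rfl⟩ <;> apply Ideal.subset_span <;> simp [h1, h2, h3, h4]
  exact this (Ideal.mem_map_of_mem _ hx)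

/-! ### Over a domain -/

section Domain

variable [IsDomain A]

/-- An infinite field containing `A`. -/
local notation "K" => AlgebraicClosure (FractionRing A)

theorem algMap_inj : Function.Injective (algebraMap A K) := by
  rw [IsScalarTower.algebraMap_eq A (FractionRing A) K]
  exact (algebraMap (FractionRing A) K).injective.comp (IsFractionRing.injective A (FractionRing A))

/-- Vanishing on the parametrised points. -/
def Van (p : T) : Prop :=
  ∀ u v w h i b : K, u ≠ 0 → v ≠ 0 → w ≠ 0 → aeval (pt u v w h i b) p = 0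

theorem van_of_mem_J {p : T} (hp : p ∈ J A) : Van p := by
  intro u v w h i b hu hv hw
  suffices J A ≤ RingHom.ker (aeval (pt u v w h i b) : T →ₐ[A] K).toRingHom from this hp
  rw [J, Ideal.span_le]
  rintro x (rfl | rfl | rfl | rfl) <;> show aeval _ _ = 0 <;>
    simp [q1, q2, q3, dt, pt] <;> field_simp <;> ring

theorem std_eq_zero_of_mem_J {r : T} (hr : StdP r) (h : r ∈ J A) : r = 0 :=
  std_eq_zero algMap_inj r hr (van_of_mem_J h)

theorem mem_J_iff_van (p : T) : p ∈ J A ↔ Van p := by
  refine ⟨van_of_mem_J, fun h => ?_⟩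
  obtain ⟨r, hr, hpr⟩ := exists_std p
  have : r = 0 := std_eq_zero algMap_inj r hr fun u v w x i b hu hv hw => by
    have := van_of_mem_J hpr u v w x i b hu hv hw
    rwa [map_sub, h u v w x i b hu hv hw, zero_sub, neg_eq_zero] at this
  simpa [this] using hpr

theorem clear_den (p : T) : ∃ (n : ℕ) (P : MvPolynomial (Fin 6) K), ∀ u v w h i b : K,
    u ≠ 0 → v ≠ 0 → w ≠ 0 → eval ![u, v, w, h, i, b] P = (u * v * w) ^ n * aeval (pt u v w h i b) p := by
  induction p using MvPolynomial.induction_on with
  | C a => exact ⟨0, C (algebraMap A K a), fun u v w h i b _ _ _ => by simp⟩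
  | add p q hp hq =>
    obtain ⟨n, P, hP⟩ := hp
    obtain ⟨k, Q, hQ⟩ := hq
    refine ⟨n + k, (X 0 * X 1 * X 2) ^ k * P + (X 0 * X 1 * X 2) ^ n * Q, ?_⟩
    intro u v w h i b hu hv hw
    simp [hP u v w h i b hu hv hw, hQ u v w h i b hu hv hw, pow_add]
    ring
  | mul_X p j hp =>
    obtain ⟨n, P, hP⟩ := hp
    obtain ⟨Q, hQ⟩ : ∃ Q : MvPolynomial (Fin 6) K, ∀ u v w h i b : K, u ≠ 0 → v ≠ 0 → w ≠ 0 →
        eval ![u, v, w, h, i, b] Q = u * v * w * pt u v w h i b j := by
      refine ⟨![X 0 * X 1 * X 2 * X 0, X 0 * X 1 * X 2 * X 1, X 0 * X 1 * X 2 * X 2,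
        X 0 * X 1 * X 2 * X 3, X 0 * X 1 * X 2 * X 4, X 0 * X 1 * X 2 * X 5,
        X 0 * X 2 * (X 0 * X 3 + X 2 * X 4), X 1 * X 2 * (X 5 * X 2 - X 1 * X 3),
        X 0 * X 1 * ((X 0 + X 4) * X 1 - X 0 * X 5)] j, ?_⟩
      intro u v w h i b hu hv hw
      fin_cases j <;> simp [pt] <;> field_simp
    refine ⟨n + 1, P * Q, fun u v w h i b hu hv hw => ?_⟩
    simp [hP u v w h i b hu hv hw, hQ u v w h i b hu hv hw, pow_succ]
    ring

theorem van_or {p q : T} (h : Van (p * q)) : Van p ∨ Van q := by
  obtain ⟨n, P, hP⟩ := clear_den p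
  obtain ⟨k, Q, hQ⟩ := clear_den q
  have hz : P * Q * (X 0 * X 1 * X 2) = 0 := MvPolynomial.funext fun y => by
    by_cases hy : y 0 ≠ 0 ∧ y 1 ≠ 0 ∧ y 2 ≠ 0
    · obtain ⟨hu, hv, hw⟩ := hy
      have e : y = ![y 0, y 1, y 2, y 3, y 4, y 5] := by ext j; fin_cases j <;> rfl
      have h' := h (y 0) (y 1) (y 2) (y 3) (y 4) (y 5) hu hv hw
      rw [map_mul] at h'
      rcases mul_eq_zero.mp h' with h' | h'
      · have := hP _ _ _ (y 3) (y 4) (y 5) hu hv hw
        rw [← e, h', mul_zero] at this
        simp [this]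
      · have := hQ _ _ _ (y 3) (y 4) (y 5) hu hv hw
        rw [← e, h', mul_zero] at this
        simp [this]
    · simp only [map_mul, eval_X, map_zero, mul_eq_zero]
      tauto
  rcases mul_eq_zero.mp ((mul_eq_zero.mp hz).resolve_right
      (mul_ne_zero (mul_ne_zero (X_ne _) (X_ne _)) (X_ne _))) with h0 | h0
  · refine Or.inl fun u v w x i b hu hv hw => ?_
    have := hP u v w x i b hu hv hw
    simpa [h0, hu, hv, hw] using this.symm
  · refine Or.inr fun u v w x i b hu hv hw => ?_
    have := hQ u v w x i b hu hv hw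
    simpa [h0, hu, hv, hw] using this.symm

theorem X0_not_mem_J : (X 0 : T) ∉ J A := fun h => by
  simpa [pt] using van_of_mem_J h 1 1 1 0 0 0 one_ne_zero one_ne_zero one_ne_zero

theorem J_isPrime : (J A).IsPrime where
  ne_top' h := X0_not_mem_J (A := A) (by rw [h]; trivial)
  mem_or_mem' {p q} h := by
    rw [mem_J_iff_van] at h ⊢
    rw [mem_J_iff_van]
    exact van_or h

theorem C_not_mem_J {a : A} (ha : a ≠ 0) : (C a : T) ∉ J A := fun h => by
  have := van_of_mem_J h 1 1 1 0 0 0 one_ne_zero one_ne_zero one_ne_zero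
  rw [aeval_C] at this
  exact ha (algMap_inj (this.trans (map_zero _).symm))

end Domain

/-! ### Over any ring: the projection onto standard polynomials -/

/-- Integral normal form of a monomial. -/
noncomputable def nfZ (m : Fin 9 →₀ ℕ) : MvPolynomial (Fin 9) (ULift.{u} ℤ) :=
  (exists_std (A := ULift.{u} ℤ) (monomial m 1)).choose

theorem nfZ_spec (m : Fin 9 →₀ ℕ) :
    StdP (nfZ.{u} m) ∧ monomial m 1 - nfZ.{u} m ∈ J (ULift.{u} ℤ) :=
  (exists_std (A := ULift.{u} ℤ) (monomial m 1)).choose_spec

variable (A)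

/-- The canonical map from the integers. -/
noncomputable def cast' : ULift.{u} ℤ →+* A := (Int.castRingHom A).comp ULift.ringEquiv.toRingHom

/-- Projection onto standard polynomials killing `J`. -/
noncomputable def nf : T →ₗ[A] T :=
  (MvPolynomial.basisMonomials (Fin 9) A).constr A fun m => map (cast' A) (nfZ m)

theorem nf_monomial (m : Fin 9 →₀ ℕ) : nf A (monomial m 1) = map (cast' A) (nfZ m) := by
  rw [nf, ← congrFun (coe_basisMonomials (Fin 9) A) m]
  exact Module.Basis.constr_basis _ _ _ _

variable {A}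

theorem stdP_nf (p : T) : StdP (nf A p) := by
  classical
  rw [p.as_sum, map_sum]
  refine Finset.sum_induction _ _ (fun a b ha hb n hn =>
    (Finset.mem_union.mp (support_add hn)).elim (ha n) (hb n)) (by intro n hn; simp at hn) ?_
  intro m _
  rw [show (monomial m (p.coeff m) : T) = p.coeff m • monomial m 1 by simp [smul_monomial],
    map_smul, nf_monomial]
  exact fun n hn => stdP_map _ (nfZ_spec m).1 n (Finsupp.support_smul hn)

theorem sub_nf_mem (p : T) : p - nf A p ∈ J A := by
  induction p using MvPolynomial.induction_on' with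
  | monomial m a =>
    rw [show (monomial m a : T) = a • monomial m 1 by simp [smul_monomial], map_smul, nf_monomial,
      ← smul_sub, MvPolynomial.smul_eq_C_mul]
    refine Ideal.mul_mem_left _ _ ?_
    have := map_mem_J (cast' A) (nfZ_spec.{u} m).2
    simpa [map_sub, map_monomial] using this
  | add p q hp hq =>
    rw [map_add, add_sub_add_comm]
    exact add_mem hp hq

theorem map_nf {B : Type u} [CommRing B] (f : A →+* B) (p : T) :
    map f (nf A p) = nf B (map f p) := by
  induction p using MvPolynomial.induction_on' with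
  | monomial m a =>
    rw [map_monomial, show (monomial m a : T) = a • monomial m 1 by simp [smul_monomial],
      show (monomial m (f a) : MvPolynomial (Fin 9) B) = f a • monomial m 1 by simp [smul_monomial],
      (nf A).map_smul, (nf B).map_smul, nf_monomial, nf_monomial, MvPolynomial.smul_eq_C_mul,
      MvPolynomial.smul_eq_C_mul, map_mul, map_C, map_map]
    congr 2
    exact congrArg map (RingHom.ext fun x => by simp only [cast', RingHom.comp_apply, eq_intCast, map_intCast])
  | add p q hp hq => simp [hp, hq]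

instance : IsDomain (ULift.{u} ℤ) :=
  (ULift.ringEquiv (R := ℤ)).toMulEquiv.isDomain ℤ

theorem nf_eq_zero {p : T} (hp : p ∈ J A) : nf A p = 0 := by
  have key : ∀ g ∈ ({q1 (ULift.{u} ℤ), q2 _, q3 _, dt _} : Set (MvPolynomial (Fin 9) (ULift.{u} ℤ))),
      ∀ x : T, nf A (x * map (cast' A) g) = 0 := by
    intro g hg x
    induction x using MvPolynomial.induction_on' with
    | monomial m a =>
      rw [show (monomial m a : T) = a • monomial m 1 by simp [smul_monomial], smul_mul_assoc,
        map_smul]
      have : monomial m 1 * map (cast' A) g = map (cast' A) (monomial m 1 * g) := by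
        simp [map_monomial]
      rw [this, ← map_nf, std_eq_zero_of_mem_J (stdP_nf _) ?_, map_zero, smul_zero]
      have h1 : monomial m 1 * g ∈ J (ULift.{u} ℤ) := Ideal.mul_mem_left _ _ (Ideal.subset_span hg)
      have h2 := sub_mem h1 (sub_nf_mem (monomial m 1 * g))
      rwa [sub_sub_cancel] at h2
    | add a b ha hb => rw [add_mul, map_add, ha, hb, add_zero]
  obtain ⟨h1, h2, h3, h4⟩ := map_gen (cast' A)
  suffices ∀ x : T, nf A (x * p) = 0 by simpa using this 1
  rw [J] at hp
  induction hp using Submodule.span_induction with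
  | mem g hg =>
    intro x
    rcases hg with rfl | rfl | rfl | rfl
    · rw [← h1]; exact key _ (by simp) x
    · rw [← h2]; exact key _ (by simp) x
    · rw [← h3]; exact key _ (by simp) x
    · rw [← h4]; exact key _ (by simp) x
  | zero => simp
  | add a b _ _ ha hb => intro x; rw [mul_add, map_add, ha, hb, add_zero]
  | smul c a _ ha => intro x; rw [smul_eq_mul, ← mul_assoc]; exact ha _

theorem mem_J_iff_nf {p : T} : p ∈ J A ↔ nf A p = 0 :=
  ⟨nf_eq_zero, fun h => by simpa [h] using sub_nf_mem p⟩

/-- Over a reduced ring, `u` is a nonzerodivisor modulo `J`. -/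
theorem mem_J_of_X0_mul [_root_.IsReduced A] {x : T} (hx : x * X 0 ∈ J A) : x ∈ J A := by
  rw [mem_J_iff_nf]
  ext m
  rw [coeff_zero]
  refine isNilpotent_iff_eq_zero.mp ?_
  rw [← mem_nilradical, nilradical_eq_sInf, Ideal.mem_sInf]
  intro P hP
  have hP' : P.IsPrime := hP
  have h1 := map_mem_J (Ideal.Quotient.mk P) hx
  rw [map_mul, map_X] at h1
  have h2 := nf_eq_zero (((J_isPrime (A := A ⧸ P)).mem_or_mem h1).resolve_right X0_not_mem_J)
  rw [← map_nf] at h2
  have := congrArg (coeff m) h2
  rwa [coeff_map, coeff_zero, Ideal.Quotient.eq_zero_iff_mem] at this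

/-! ### The linear ideal -/

variable (A)

/-- The substitution `u = v = w = 0`. -/
noncomputable def kill : T →ₐ[A] T := aeval ![0, 0, 0, X 3, X 4, X 5, X 6, X 7, X 8]

variable {A}

theorem sub_kill_mem (p : T) : p - kill A p ∈ L A := by
  induction p using MvPolynomial.induction_on with
  | C a => simp [kill]
  | add p q hp hq => rw [map_add, add_sub_add_comm]; exact add_mem hp hq
  | mul_X p j hp =>
    have : p * X j - kill A (p * X j) = (p - kill A p) * X j + kill A p * (X j - kill A (X j)) := by
      rw [map_mul]; ring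
    rw [this]
    refine add_mem (Ideal.mul_mem_right _ _ hp) (Ideal.mul_mem_left _ _ ?_)
    fin_cases j <;> simp [kill, X0_mem, X1_mem, X2_mem]

theorem mem_L_iff {p : T} : p ∈ L A ↔ kill A p = 0 := by
  refine ⟨fun h => ?_, fun h => by simpa [h] using sub_kill_mem p⟩
  suffices L A ≤ RingHom.ker (kill A).toRingHom from this h
  rw [L, Ideal.span_le]
  rintro x (rfl | rfl | rfl) <;> show kill A _ = 0 <;> simp [kill]

theorem L_isPrime [IsDomain A] : (L A).IsPrime := by
  have : L A = RingHom.ker (kill A).toRingHom := by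
    ext p; exact mem_L_iff
  rw [this]
  exact RingHom.ker_isPrime _

theorem C_not_mem_L {a : A} (ha : a ≠ 0) : (C a : T) ∉ L A := fun h => by
  rw [mem_L_iff] at h
  simp [kill] at h
  exact ha h

/-- `dt` is a nonzerodivisor modulo `L`. -/
theorem mem_L_of_dt_mul {t : T} (h : t * dt A ∈ L A) : t ∈ L A := by
  classical
  rw [mem_L_iff] at h ⊢
  rw [map_mul] at h
  by_contra hne
  have hd : kill A (dt A) = (2 : A) • (X 3 * X 5 * X 4) - X 6 * X 5 * X 5 + X 7 * X 4 * X 4
      - X 6 * X 7 * X 8 - X 8 * X 3 * X 3 := by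
    simp [kill, dt, MvPolynomial.smul_eq_C_mul, map_ofNat]
    ring
  let o : MonomialOrder (Fin 9) := MonomialOrder.lex
  let m : Fin 9 →₀ ℕ := Finsupp.single 8 1 + Finsupp.single 3 1 + Finsupp.single 3 1
  have hX : ∀ a b c : Fin 9, (X a * X b * X c : T) =
      monomial (Finsupp.single a 1 + Finsupp.single b 1 + Finsupp.single c 1) 1 := by
    intro a b c
    simp [X, monomial_mul]
  have hlt : ∀ k : Fin 9 →₀ ℕ, k 0 = 0 → k 1 = 0 → k 2 = 0 → k 3 < 2 → o.toSyn k ≤ o.toSyn m := by
    intro k k0 k1 k2 k3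
    rw [MonomialOrder.lex_le_iff]
    refine le_of_lt (Finsupp.lex_def.mpr ⟨3, fun j hj => ?_, ?_⟩)
    · fin_cases j <;> simp_all [m]
    · simpa [m] using k3
  have hdeg : o.toSyn (o.degree (kill A (dt A))) ≤ o.toSyn m := by
    rw [o.degree_le_iff]
    intro k hk
    rw [hd, hX, hX, hX, hX, hX, smul_monomial] at hk
    have sub : ∀ {s s' : Finset (Fin 9 →₀ ℕ)}, k ∈ s ∪ s' → k ∈ s ∨ k ∈ s' := fun h => Finset.mem_union.mp h
    rcases sub (support_sub _ _ _ hk) with hk | hk
    · rcases sub (support_sub _ _ _ hk) with hk | hk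
      · rcases sub (support_add hk) with hk | hk
        · rcases sub (support_sub _ _ _ hk) with hk | hk <;>
            rw [Finset.mem_singleton.mp (support_monomial_subset hk)] <;>
            exact hlt _ (by simp) (by simp) (by simp) (by simp)
        · rw [Finset.mem_singleton.mp (support_monomial_subset hk)]
          exact hlt _ (by simp) (by simp) (by simp) (by simp)
      · rw [Finset.mem_singleton.mp (support_monomial_subset hk)]
        exact hlt _ (by simp) (by simp) (by simp) (by simp)
    · rw [Finset.mem_singleton.mp (support_monomial_subset hk)]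
  have hcoeff : (kill A (dt A)).coeff m = -1 := by
    rw [hd, hX, hX, hX, hX, hX, smul_monomial]
    simp [coeff_monomial, m, Finsupp.ext_iff, Fin.forall_fin_succ]
  have := o.coeff_mul_of_add_of_degree_le (f := kill A t) le_rfl hdeg
  rw [h, coeff_zero, hcoeff, mul_neg, mul_one, eq_comm, neg_eq_zero] at this
  exact hne (o.leadingCoeff_eq_zero_iff.mp this)

/-- `L · dt ⊆ I`. -/
theorem mul_dt_mem_I {t : T} (ht : t ∈ L A) : t * dt A ∈ I A := by
  rw [L] at ht
  induction ht using Submodule.span_induction with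
  | mem x hx =>
    rcases hx with rfl | rfl | rfl
    · convert add_mem (add_mem ((I A).mul_mem_left (-(X 3 * X 8) + X 5 * X 4) (q1_mem A))
        ((I A).mul_mem_left (X 6 * X 8 - X 4 * X 4) (q2_mem A)))
        ((I A).mul_mem_left (-(X 6 * X 5) + X 3 * X 4) (q3_mem A)) using 1
      simp only [q1, q2, q3, dt]; ring
    · convert add_mem (add_mem ((I A).mul_mem_left (X 7 * X 8 + X 5 * (X 5 - X 1)) (q1_mem A))
        ((I A).mul_mem_left (X 3 * X 8 - X 4 * (X 5 - X 1)) (q2_mem A)))
        ((I A).mul_mem_left (-(X 3 * X 5) - X 4 * X 7) (q3_mem A)) using 1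
      simp only [q1, q2, q3, dt]; ring
    · convert add_mem (add_mem ((I A).mul_mem_left (X 7 * X 4 + X 3 * (X 5 - X 1)) (q1_mem A))
        ((I A).mul_mem_left (X 3 * X 4 - X 6 * (X 5 - X 1)) (q2_mem A)))
        ((I A).mul_mem_left (-(X 3 * X 3) - X 6 * X 7) (q3_mem A)) using 1
      simp only [q1, q2, q3, dt]; ring
  | zero => simp
  | add a b _ _ ha hb => rw [add_mul]; exact add_mem ha hb
  | smul c a _ ha => rw [smul_eq_mul, mul_assoc]; exact Ideal.mul_mem_left _ _ ha

theorem exists_of_mem_J {x : T} (hx : x ∈ J A) : ∃ y ∈ I A, ∃ t : T, x = y + t * dt A := by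
  rw [J] at hx
  induction hx using Submodule.span_induction with
  | mem g hg =>
    rcases hg with rfl | rfl | rfl | rfl
    · exact ⟨_, q1_mem A, 0, by simp⟩
    · exact ⟨_, q2_mem A, 0, by simp⟩
    · exact ⟨_, q3_mem A, 0, by simp⟩
    · exact ⟨0, zero_mem _, 1, by simp⟩
  | zero => exact ⟨0, zero_mem _, 0, by simp⟩
  | add a b _ _ ha hb =>
    obtain ⟨y, hy, t, rfl⟩ := ha
    obtain ⟨z, hz, s, rfl⟩ := hb
    exact ⟨y + z, add_mem hy hz, t + s, by ring⟩
  | smul c a _ ha =>
    obtain ⟨y, hy, t, rfl⟩ := ha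
    exact ⟨c * y, Ideal.mul_mem_left _ _ hy, c * t, by rw [smul_eq_mul]; ring⟩

theorem I_eq_inf : I A = J A ⊓ L A := by
  refine le_antisymm (le_inf (I_le_J A) (I_le_L A)) fun x ⟨hJ, hL⟩ => ?_
  obtain ⟨y, hy, t, rfl⟩ := exists_of_mem_J hJ
  have : t * dt A ∈ L A := by simpa using sub_mem hL (I_le_L A hy)
  exact add_mem hy (mul_dt_mem_I (mem_L_of_dt_mul this))

theorem colon_I_J : (I A).colon (J A : Set T) = L A := by
  ext x
  rw [Submodule.mem_colon]
  constructor
  · intro h
    exact mem_L_of_dt_mul (I_le_L A (h _ (dt_mem A)))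
  · intro hx y hy
    rw [smul_eq_mul, I_eq_inf]
    exact ⟨Ideal.mul_mem_left _ _ hy, Ideal.mul_mem_right _ _ hx⟩

theorem colon_I_L [_root_.IsReduced A] : (I A).colon (L A : Set T) = J A := by
  ext x
  rw [Submodule.mem_colon]
  constructor
  · intro h
    exact mem_J_of_X0_mul (I_le_J A (h _ (X0_mem A)))
  · intro hx y hy
    rw [smul_eq_mul, I_eq_inf]
    exact ⟨Ideal.mul_mem_right _ _ hx, Ideal.mul_mem_left _ _ hy⟩

theorem dt_not_mem_L [Nontrivial A] : dt A ∉ L A := fun h => by
  have := mem_L_of_dt_mul (t := (1 : T)) (by simpa using h)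
  rw [mem_L_iff, map_one] at this
  exact one_ne_zero this

end GrothLib.Lie3
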