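import Mathlib.Algebra.MvPolynomial.Funext
import Mathlib.Algebra.Polynomial.Roots
import Mathlib.Algebra.MvPolynomial.CommRing
import Mathlib.FieldTheory.IsAlgClosed.AlgebraicClosure
import Mathlib.RingTheory.Ideal.Span
import Mathlib.Tactic.LinearCombination
import Mathlib.Tactic.Ring

/-!
# The seven-sheeted normal form for based three-dimensional Lie algebras

Variables: `0,1,2 = u,v,w`, `3,4,5 = h,i,b`, `6,7,8 = g,e,c`. The ideal `J` is generated by
`q1 = uh+wi-vg`, `q2 = bw-vh-ue`, `q3 = wc-uv+ub-iv` and the cubic `dt`.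
-/

set_option autoImplicit false

namespace GrothLib.Lie3

open MvPolynomial

universe u

variable (A : Type u) [CommRing A]

local notation "T" => MvPolynomial (Fin 9) A

/-- First quadric. -/
noncomputable def q1 : T := X 0 * X 3 + X 2 * X 4 - X 1 * X 6
/-- Second quadric. -/
noncomputable def q2 : T := X 5 * X 2 - X 1 * X 3 - X 0 * X 7
/-- Third quadric. -/
noncomputable def q3 : T := X 2 * X 8 - X 0 * X 1 + X 0 * X 5 - X 4 * X 1
/-- The cubic. -/
noncomputable def dt : T :=
  -(X 8 * X 3 ^ 2) + X 6 * X 5 * (X 1 - X 5) + X 7 * X 4 ^ 2 - X 6 * X 7 * X 8 + X 3 * X 5 * X 4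
    - X 4 * X 3 * (X 1 - X 5)

/-- The ideal generated by the quadrics and the cubic. -/
noncomputable def J : Ideal T := Ideal.span {q1 A, q2 A, q3 A, dt A}

/-- Standard exponents. -/
def Std (m : Fin 9 →₀ ℕ) : Prop :=
  (m 1 = 0 ∨ m 6 = 0) ∧ (m 0 = 0 ∨ m 7 = 0) ∧ (m 2 = 0 ∨ m 8 = 0) ∧ (m 6 = 0 ∨ m 7 = 0 ∨ m 8 = 0)

variable {A}

/-- Polynomials supported on standard monomials. -/
def StdP (p : T) : Prop := ∀ m ∈ p.support, Std m

/-! ### Evaluation at the parametrised points -/

section Points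

variable {K : Type u} [Field K]

/-- The point attached to `(u,v,w,h,i,b)`. -/
noncomputable def pt (u v w h i b : K) : Fin 9 → K :=
  ![u, v, w, h, i, b, (u * h + w * i) / v, (b * w - v * h) / u, ((u + i) * v - u * b) / w]

theorem aeval_eq_sum [Algebra A K] (p : T) (x : Fin 9 → K) :
    aeval x p = ∑ m ∈ p.support, algebraMap A K (p.coeff m) *
      (x 0 ^ m 0 * x 1 ^ m 1 * x 2 ^ m 2 * x 3 ^ m 3 * x 4 ^ m 4 * x 5 ^ m 5 * x 6 ^ m 6 *
        x 7 ^ m 7 * x 8 ^ m 8) := by
  rw [aeval_def, eval₂_eq']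
  refine Finset.sum_congr rfl fun m _ => ?_
  rw [Fin.prod_univ_succ]
  simp only [Fin.prod_univ_succ, Fin.prod_univ_zero, mul_assoc, mul_one]
  rfl

theorem eval_zero_of_forall_ne [Infinite K] (P : Polynomial K)
    (h : ∀ x : K, x ≠ 0 → P.eval x = 0) : P.eval 0 = 0 := by
  have : Polynomial.X * P = 0 := Polynomial.funext fun x => by
    rcases eq_or_ne x 0 with hx | hx <;> simp [hx]
    exact h x hx
  rcases mul_eq_zero.mp this with h1 | h1
  · exact absurd h1 Polynomial.X_ne_zero
  · simp [h1]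

/-- Distinct monomials are independent on the complement of a hypersurface. -/
theorem indep [Infinite K] {ι : Type*} (s : Finset ι) (a : ι → K) (e : ι → Fin 6 → ℕ)
    (hinj : Set.InjOn e s) (q : MvPolynomial (Fin 6) K) (hq : q ≠ 0)
    (h : ∀ y : Fin 6 → K, eval y q ≠ 0 →
      ∑ m ∈ s, a m * (y 0 ^ e m 0 * y 1 ^ e m 1 * y 2 ^ e m 2 * y 3 ^ e m 3 * y 4 ^ e m 4 *
        y 5 ^ e m 5) = 0) :
    ∀ m ∈ s, a m = 0 := by
  classical
  let F : MvPolynomial (Fin 6) K := ∑ m ∈ s, monomial (Finsupp.equivFunOnFinite.symm (e m)) (a m)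
  have : q * F = 0 := MvPolynomial.funext fun y => by
    rcases eq_or_ne (eval y q) 0 with hy | hy
    · simp [hy]
    · rw [map_mul, map_zero, map_sum]
      refine mul_eq_zero_of_right _ (Eq.trans ?_ (h y hy))
      refine Finset.sum_congr rfl fun m _ => ?_
      rw [eval_monomial, Finsupp.prod_fintype _ _ (fun i => pow_zero _)]
      simp only [Fin.prod_univ_succ, Fin.prod_univ_zero, mul_assoc, mul_one]
      rfl
  have hF : F = 0 := (mul_eq_zero.mp this).resolve_left hq
  intro m hm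
  have := congrArg (coeff (Finsupp.equivFunOnFinite.symm (e m))) hF
  rw [coeff_sum, coeff_zero, Finset.sum_eq_single m] at this
  · simpa using this
  · intro n hn hne
    rw [coeff_monomial, if_neg]
    exact fun hh => hne (hinj hn hm (Finsupp.equivFunOnFinite.symm.injective hh))
  · exact fun hh => absurd hm hh

theorem ext9 {m n : Fin 9 →₀ ℕ} (h0 : m 0 = n 0) (h1 : m 1 = n 1) (h2 : m 2 = n 2) (h3 : m 3 = n 3)
    (h4 : m 4 = n 4) (h5 : m 5 = n 5) (h6 : m 6 = n 6) (h7 : m 7 = n 7) (h8 : m 8 = n 8) : m = n := by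
  ext j
  fin_cases j <;> assumption

theorem inj1 {N m0 m2 m7 m8 n0 n2 n7 n8 : ℕ} (hm : m7 + m8 ≤ N) (hn : n7 + n8 ≤ N)
    (a0 : N + m0 + m8 - m7 = N + n0 + n8 - n7) (a2 : N + m2 + m7 - m8 = N + n2 + n7 - n8)
    (e2 : m0 = 0 ∨ m7 = 0) (e3 : m2 = 0 ∨ m8 = 0) (e4 : m7 = 0 ∨ m8 = 0)
    (f2 : n0 = 0 ∨ n7 = 0) (f3 : n2 = 0 ∨ n8 = 0) (f4 : n7 = 0 ∨ n8 = 0) :
    m0 = n0 ∧ m2 = n2 ∧ m7 = n7 ∧ m8 = n8 := by
  have b0 : m0 + m8 + n7 = n0 + n8 + m7 := by omega
  have b2 : m2 + m7 + n8 = n2 + n7 + m8 := by omega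
  clear a0 a2 hm hn
  rcases e4 with h | h <;> rcases f4 with h' | h' <;> rcases e3 with g | g <;>
    rcases f3 with g' | g' <;> omega

theorem inj2 {N m2 m8 n2 n8 : ℕ} (hm : m8 ≤ N) (hn : n8 ≤ N)
    (a2 : N + m2 - m8 = N + n2 - n8) (e3 : m2 = 0 ∨ m8 = 0) (f3 : n2 = 0 ∨ n8 = 0) :
    m2 = n2 ∧ m8 = n8 := by
  have b2 : m2 + n8 = n2 + m8 := by omega
  omega

theorem X_ne (i : Fin 6) : (X i : MvPolynomial (Fin 6) K) ≠ 0 := X_ne_zero i

variable [Algebra A K]

theorem std_eq_zero [Infinite K] (hinjA : Function.Injective (algebraMap A K)) (p : T) (hp : StdP p)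
    (h0 : ∀ u v w h i b : K, u ≠ 0 → v ≠ 0 → w ≠ 0 → aeval (pt u v w h i b) p = 0) : p = 0 := by
  classical
  set s := p.support with hs
  set c : (Fin 9 →₀ ℕ) → K := fun m => algebraMap A K (p.coeff m) with hc
  have hc0 : ∀ m ∈ s, c m ≠ 0 := fun m hm h =>
    (mem_support_iff.mp hm) (hinjA (by rw [map_zero]; exact h))
  have val : ∀ u v w h i b : K, u ≠ 0 → v ≠ 0 → w ≠ 0 →
      ∑ m ∈ s, c m * (u ^ m 0 * v ^ m 1 * w ^ m 2 * h ^ m 3 * i ^ m 4 * b ^ m 5 *
        ((u * h + w * i) / v) ^ m 6 * ((b * w - v * h) / u) ^ m 7 *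
        (((u + i) * v - u * b) / w) ^ m 8) = 0 := by
    intro u v w h i b hu hv hw
    have := h0 u v w h i b hu hv hw
    rwa [aeval_eq_sum] at this
  set N := s.sup (fun m => m 7 + m 8) with hN
  have hN' : ∀ m ∈ s, m 7 + m 8 ≤ N := fun m hm => Finset.le_sup (f := fun m => m 7 + m 8) hm
  have q6 : (X 0 * X 3 + X 2 * X 4 : MvPolynomial (Fin 6) K) ≠ 0 := by
    intro hh
    simpa using congrArg (eval ![1, 0, 0, 1, 0, 0]) hh
  -- step 1: no `g`
  have s1 : ∀ m ∈ s, m 6 = 0 := by
    set G0 := s.sup (fun m => m 6) with hG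
    have hG' : ∀ m ∈ s, m 6 ≤ G0 := fun m hm => Finset.le_sup (f := fun m => m 6) hm
    suffices G0 = 0 from fun m hm => Nat.le_zero.mp (this ▸ hG' m hm)
    by_contra hne
    obtain ⟨m₀, hm₀, hm₀'⟩ := Finset.exists_mem_eq_sup s
      (Finset.nonempty_iff_ne_empty.mpr fun he => hne (by simp [hG, he])) (fun m => m 6)
    refine hc0 m₀ hm₀ ?_
    have key := indep (s.filter fun m => m 6 = G0) (fun m => c m * (-1) ^ m 8)
      (fun m => ![N + m 0 + m 8 - m 7, 0, N + m 2 + m 7 - m 8, m 3, m 4, m 5 + m 7 + m 8]) ?_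
      (X 0 * X 2 * (X 0 * X 3 + X 2 * X 4)) (mul_ne_zero (mul_ne_zero (X_ne _) (X_ne _)) q6) ?_
      m₀ (by simp [hm₀, ← hm₀', hG])
    · simpa using key
    · intro m hm n hn he
      simp only [Finset.coe_filter, Set.mem_setOf_eq] at hm hn
      have a0 := congrFun he 0
      have a2 := congrFun he 2
      have a3 := congrFun he 3
      have a4 := congrFun he 4
      have a5 := congrFun he 5
      simp only [Matrix.cons_val] at a0 a2 a3 a4 a5
      have := hN' m hm.1
      have := hN' n hn.1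
      obtain ⟨e1, e2, e3, e4⟩ := hp m hm.1
      obtain ⟨f1, f2, f3, f4⟩ := hp n hn.1
      have h6 : m 6 ≠ 0 ∧ n 6 ≠ 0 := ⟨fun h => hne (hm.2.symm.trans h), fun h => hne (hn.2.symm.trans h)⟩
      obtain ⟨k0, k2, k7, k8⟩ := inj1 (hN' m hm.1) (hN' n hn.1) a0 a2 e2 e3 (e4.resolve_left h6.1)
        f2 f3 (f4.resolve_left h6.2)
      refine ext9 k0 ((e1.resolve_right h6.1).trans (f1.resolve_right h6.2).symm) k2 a3 a4 ?_
        (hm.2.trans hn.2.symm) k7 k8
      rw [k7, k8] at a5
      exact Nat.add_right_cancel (Nat.add_right_cancel a5)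
    · intro y hy
      simp only [map_mul, map_add, eval_X, mul_ne_zero_iff] at hy
      obtain ⟨⟨hu, hw⟩, hgi⟩ := hy
      generalize y 0 = u, y 2 = w, y 3 = h, y 4 = i, y 5 = b at hu hw hgi ⊢
      set P : Polynomial K := ∑ m ∈ s,
        Polynomial.C (c m * (u ^ m 0 * w ^ m 2 * h ^ m 3 * i ^ m 4 * b ^ m 5 * (u * h + w * i) ^ m 6
          * (u ^ m 7)⁻¹ * (w ^ m 8)⁻¹)) * Polynomial.X ^ (m 1 + (G0 - m 6)) *
          (Polynomial.C (b * w) - Polynomial.X * Polynomial.C h) ^ m 7 *
          (Polynomial.C (u + i) * Polynomial.X - Polynomial.C (u * b)) ^ m 8 with hP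
      have hP0 : P.eval 0 = 0 := eval_zero_of_forall_ne P fun v hv => by
        rw [hP, Polynomial.eval_finsetSum]
        refine Eq.trans ?_ (mul_eq_zero_of_right (v ^ G0) (val u v w h i b hu hv hw))
        rw [Finset.mul_sum]
        refine Finset.sum_congr rfl fun m hm => ?_
        obtain ⟨d, hd⟩ := Nat.le.dest (hG' m hm)
        simp only [Polynomial.eval_mul, Polynomial.eval_C, Polynomial.eval_pow, Polynomial.eval_X,
          Polynomial.eval_sub, ← hd, Nat.add_sub_cancel_left, div_pow, pow_add]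
        field_simp
      rw [hP, Polynomial.eval_finsetSum] at hP0
      rw [← Finset.sum_subset (Finset.filter_subset (fun m => m 6 = G0) s)] at hP0
      · refine ((mul_eq_zero (a := (u * h + w * i) ^ G0)).mp ?_).resolve_left (pow_ne_zero _ hgi)
        refine Eq.trans ?_ (mul_eq_zero_of_right ((u * w) ^ N) hP0)
        rw [Finset.mul_sum, Finset.mul_sum]
        refine Finset.sum_congr rfl fun m hm => ?_
        rw [Finset.mem_filter] at hm
        obtain ⟨e1, -, -, -⟩ := hp m hm.1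
        have e1' : m 1 = 0 := e1.resolve_right (by omega)
        obtain ⟨d, hd⟩ := Nat.le.dest (hN' m hm.1)
        simp only [Polynomial.eval_mul, Polynomial.eval_C, Polynomial.eval_pow, Polynomial.eval_X,
          Polynomial.eval_sub, e1', hm.2, Nat.sub_self, add_zero, pow_zero, zero_mul, mul_zero,
          sub_zero, zero_sub, mul_one, Matrix.cons_val]
        rw [show N + m 0 + m 8 - m 7 = d + m 0 + m 8 + m 8 by omega,
          show N + m 2 + m 7 - m 8 = d + m 2 + m 7 + m 7 by omega, ← hd, neg_pow (u * b) (m 8)]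
        simp only [pow_add, mul_pow]
        field_simp
      · intro m hm hm'
        rw [Finset.mem_filter, not_and] at hm'
        have : m 1 + (G0 - m 6) ≠ 0 := by have := hG' m hm; have := hm' hm; omega
        simp [zero_pow this]
  -- step 2: no `e`
  have s2 : ∀ m ∈ s, m 7 = 0 := by
    set E0 := s.sup (fun m => m 7) with hE
    have hE' : ∀ m ∈ s, m 7 ≤ E0 := fun m hm => Finset.le_sup (f := fun m => m 7) hm
    suffices E0 = 0 from fun m hm => Nat.le_zero.mp (this ▸ hE' m hm)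
    by_contra hne
    obtain ⟨m₀, hm₀, hm₀'⟩ := Finset.exists_mem_eq_sup s
      (Finset.nonempty_iff_ne_empty.mpr fun he => hne (by simp [hE, he])) (fun m => m 7)
    refine hc0 m₀ hm₀ ?_
    have q7 : (X 5 * X 2 - X 1 * X 3 : MvPolynomial (Fin 6) K) ≠ 0 := by
      intro hh
      simpa using congrArg (eval ![0, 0, 1, 0, 0, 1]) hh
    have key := indep (s.filter fun m => m 7 = E0) c
      (fun m => ![0, m 1 + m 8, N + m 2 - m 8, m 3, m 4 + m 8, m 5]) ?_
      (X 1 * X 2 * (X 5 * X 2 - X 1 * X 3)) (mul_ne_zero (mul_ne_zero (X_ne _) (X_ne _)) q7) ?_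
      m₀ (by simp [hm₀, ← hm₀', hE])
    · exact key
    · intro m hm n hn he
      simp only [Finset.coe_filter, Set.mem_setOf_eq] at hm hn
      have a1 := congrFun he 1
      have a2 := congrFun he 2
      have a3 := congrFun he 3
      have a4 := congrFun he 4
      have a5 := congrFun he 5
      simp only [Matrix.cons_val] at a1 a2 a3 a4 a5
      have := hN' m hm.1
      have := hN' n hn.1
      have := s1 m hm.1
      have := s1 n hn.1
      obtain ⟨e1, e2, e3, e4⟩ := hp m hm.1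
      obtain ⟨f1, f2, f3, f4⟩ := hp n hn.1
      have h7 : m 7 ≠ 0 ∧ n 7 ≠ 0 := ⟨fun h => hne (hm.2.symm.trans h), fun h => hne (hn.2.symm.trans h)⟩
      obtain ⟨k2, k8⟩ := inj2 ((Nat.le_add_left _ _).trans (hN' m hm.1))
        ((Nat.le_add_left _ _).trans (hN' n hn.1)) a2 e3 f3
      rw [k8] at a1 a4
      exact ext9 ((e2.resolve_right h7.1).trans (f2.resolve_right h7.2).symm) (Nat.add_right_cancel a1)
        k2 a3 (Nat.add_right_cancel a4) a5 ((s1 m hm.1).trans (s1 n hn.1).symm)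
        (hm.2.trans hn.2.symm) k8
    · intro y hy
      simp only [map_mul, map_sub, eval_X, mul_ne_zero_iff] at hy
      obtain ⟨⟨hv, hw⟩, hgi⟩ := hy
      generalize y 0 = u, y 1 = v, y 2 = w, y 3 = h, y 4 = i, y 5 = b at hv hw hgi ⊢
      set P : Polynomial K := ∑ m ∈ s,
        Polynomial.C (c m * (v ^ m 1 * w ^ m 2 * h ^ m 3 * i ^ m 4 * b ^ m 5 * (b * w - v * h) ^ m 7
          * (w ^ m 8)⁻¹)) * Polynomial.X ^ (m 0 + (E0 - m 7)) *
          (Polynomial.C (i * v) + Polynomial.X * Polynomial.C (v - b)) ^ m 8 with hP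
      have hP0 : P.eval 0 = 0 := eval_zero_of_forall_ne P fun u hu => by
        rw [hP, Polynomial.eval_finsetSum]
        refine Eq.trans ?_ (mul_eq_zero_of_right (u ^ E0) (val u v w h i b hu hv hw))
        rw [Finset.mul_sum]
        refine Finset.sum_congr rfl fun m hm => ?_
        obtain ⟨d, hd⟩ := Nat.le.dest (hE' m hm)
        rw [show (u + i) * v - u * b = i * v + u * (v - b) by ring]
        simp only [Polynomial.eval_mul, Polynomial.eval_C, Polynomial.eval_pow, Polynomial.eval_X,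
          Polynomial.eval_add, ← hd, Nat.add_sub_cancel_left, s1 m hm, div_pow, pow_add, pow_zero]
        field_simp
      rw [hP, Polynomial.eval_finsetSum] at hP0
      rw [← Finset.sum_subset (Finset.filter_subset (fun m => m 7 = E0) s)] at hP0
      · refine ((mul_eq_zero (a := (b * w - v * h) ^ E0)).mp ?_).resolve_left (pow_ne_zero _ hgi)
        refine Eq.trans ?_ (mul_eq_zero_of_right (w ^ N) hP0)
        rw [Finset.mul_sum, Finset.mul_sum]
        refine Finset.sum_congr rfl fun m hm => ?_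
        rw [Finset.mem_filter] at hm
        obtain ⟨-, e2, -, -⟩ := hp m hm.1
        have e2' : m 0 = 0 := e2.resolve_right (by omega)
        obtain ⟨d, hd⟩ := Nat.le.dest (hN' m hm.1)
        simp only [Polynomial.eval_mul, Polynomial.eval_C, Polynomial.eval_pow, Polynomial.eval_X,
          Polynomial.eval_add, e2', hm.2, Nat.sub_self, add_zero, pow_zero, zero_mul, mul_zero,
          mul_one, one_mul, Matrix.cons_val]
        rw [show N + m 2 - m 8 = d + m 2 + E0 by omega, ← hd, hm.2]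
        simp only [pow_add, mul_pow]
        field_simp
      · intro m hm hm'
        rw [Finset.mem_filter, not_and] at hm'
        have : m 0 + (E0 - m 7) ≠ 0 := by have := hE' m hm; have := hm' hm; omega
        simp [zero_pow this]
  -- step 3: no `c`
  have s3 : ∀ m ∈ s, m 8 = 0 := by
    set C0 := s.sup (fun m => m 8) with hC
    have hC' : ∀ m ∈ s, m 8 ≤ C0 := fun m hm => Finset.le_sup (f := fun m => m 8) hm
    suffices C0 = 0 from fun m hm => Nat.le_zero.mp (this ▸ hC' m hm)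
    by_contra hne
    obtain ⟨m₀, hm₀, hm₀'⟩ := Finset.exists_mem_eq_sup s
      (Finset.nonempty_iff_ne_empty.mpr fun he => hne (by simp [hC, he])) (fun m => m 8)
    refine hc0 m₀ hm₀ ?_
    have q8 : ((X 0 + X 4) * X 1 - X 0 * X 5 : MvPolynomial (Fin 6) K) ≠ 0 := by
      intro hh
      simpa using congrArg (eval ![1, 1, 0, 0, 0, 0]) hh
    have key := indep (s.filter fun m => m 8 = C0) c
      (fun m => ![m 0, m 1, 0, m 3, m 4, m 5]) ?_
      (X 0 * X 1 * ((X 0 + X 4) * X 1 - X 0 * X 5))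
      (mul_ne_zero (mul_ne_zero (X_ne _) (X_ne _)) q8) ?_
      m₀ (by simp [hm₀, ← hm₀', hC])
    · exact key
    · intro m hm n hn he
      simp only [Finset.coe_filter, Set.mem_setOf_eq] at hm hn
      have a0 := congrFun he 0
      have a1 := congrFun he 1
      have a3 := congrFun he 3
      have a4 := congrFun he 4
      have a5 := congrFun he 5
      simp only [Matrix.cons_val] at a0 a1 a3 a4 a5
      have := s1 m hm.1
      have := s1 n hn.1
      have := s2 m hm.1
      have := s2 n hn.1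
      obtain ⟨e1, e2, e3, e4⟩ := hp m hm.1
      obtain ⟨f1, f2, f3, f4⟩ := hp n hn.1
      have h8 : m 8 ≠ 0 ∧ n 8 ≠ 0 := ⟨fun h => hne (hm.2.symm.trans h), fun h => hne (hn.2.symm.trans h)⟩
      exact ext9 a0 a1 ((e3.resolve_right h8.1).trans (f3.resolve_right h8.2).symm) a3 a4 a5
        ((s1 m hm.1).trans (s1 n hn.1).symm) ((s2 m hm.1).trans (s2 n hn.1).symm)
        (hm.2.trans hn.2.symm)
    · intro y hy
      simp only [map_mul, map_add, map_sub, eval_X, mul_ne_zero_iff] at hy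
      obtain ⟨⟨hu, hv⟩, hgi⟩ := hy
      generalize y 0 = u, y 1 = v, y 2 = w, y 3 = h, y 4 = i, y 5 = b at hu hv hgi ⊢
      set P : Polynomial K := ∑ m ∈ s,
        Polynomial.C (c m * (u ^ m 0 * v ^ m 1 * h ^ m 3 * i ^ m 4 * b ^ m 5 *
          ((u + i) * v - u * b) ^ m 8)) * Polynomial.X ^ (m 2 + (C0 - m 8)) with hP
      have hP0 : P.eval 0 = 0 := eval_zero_of_forall_ne P fun w hw => by
        rw [hP, Polynomial.eval_finsetSum]
        refine Eq.trans ?_ (mul_eq_zero_of_right (w ^ C0) (val u v w h i b hu hv hw))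
        rw [Finset.mul_sum]
        refine Finset.sum_congr rfl fun m hm => ?_
        obtain ⟨d, hd⟩ := Nat.le.dest (hC' m hm)
        simp only [Polynomial.eval_mul, Polynomial.eval_C, Polynomial.eval_pow, Polynomial.eval_X,
          ← hd, Nat.add_sub_cancel_left, s1 m hm, s2 m hm, div_pow, pow_add, pow_zero]
        field_simp
      rw [hP, Polynomial.eval_finsetSum] at hP0
      rw [← Finset.sum_subset (Finset.filter_subset (fun m => m 8 = C0) s)] at hP0
      · refine ((mul_eq_zero (a := ((u + i) * v - u * b) ^ C0)).mp ?_).resolve_left (pow_ne_zero _ hgi)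
        refine Eq.trans ?_ hP0
        rw [Finset.mul_sum]
        refine Finset.sum_congr rfl fun m hm => ?_
        rw [Finset.mem_filter] at hm
        obtain ⟨-, -, e3, -⟩ := hp m hm.1
        have e3' : m 2 = 0 := e3.resolve_right (by omega)
        simp only [Polynomial.eval_mul, Polynomial.eval_C, Polynomial.eval_pow, Polynomial.eval_X,
          e3', hm.2, Nat.sub_self, add_zero, pow_zero, mul_one, Matrix.cons_val]
        ring
      · intro m hm hm'
        rw [Finset.mem_filter, not_and] at hm'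
        have : m 2 + (C0 - m 8) ≠ 0 := by have := hC' m hm; have := hm' hm; omega
        simp [zero_pow this]
  -- step 4
  by_contra hne
  obtain ⟨m₀, hm₀⟩ := Finset.nonempty_iff_ne_empty.mpr (fun he => hne (support_eq_empty.mp he))
  refine hc0 m₀ hm₀ (indep s c (fun m => ![m 0, m 1, m 2, m 3, m 4, m 5]) ?_ (X 0 * X 1 * X 2)
    (mul_ne_zero (mul_ne_zero (X_ne _) (X_ne _)) (X_ne _)) ?_ m₀ hm₀)
  · intro m hm n hn he
    have a0 := congrFun he 0
    have a1 := congrFun he 1
    have a2 := congrFun he 2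
    have a3 := congrFun he 3
    have a4 := congrFun he 4
    have a5 := congrFun he 5
    simp only [Matrix.cons_val] at a0 a1 a2 a3 a4 a5
    have := s1 m hm
    have := s1 n hn
    have := s2 m hm
    have := s2 n hn
    have := s3 m hm
    have := s3 n hn
    exact ext9 a0 a1 a2 a3 a4 a5 ((s1 m hm).trans (s1 n hn).symm) ((s2 m hm).trans (s2 n hn).symm)
      ((s3 m hm).trans (s3 n hn).symm)
  · intro y hy
    simp only [map_mul, eval_X, mul_ne_zero_iff] at hy
    obtain ⟨⟨hu, hv⟩, hw⟩ := hy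
    refine Eq.trans (Finset.sum_congr rfl fun m hm => ?_) (val _ _ _ (y 3) (y 4) (y 5) hu hv hw)
    simp [s1 m hm, s2 m hm, s3 m hm]

end Points

end GrothLib.Lie3
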