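import Groth.Agent.Lib.Lie3.Ideals
import Groth.Prelude.Def_W4c1bouilletffgsL3
import Mathlib.RingTheory.Ideal.MinimalPrime.Basic
import Mathlib.RingTheory.Flat.TorsionFree

/-!
# Transfer to the coordinates of the prelude
-/

set_option autoImplicit false

namespace GrothLib.Lie3

open MvPolynomial

universe u

variable (A : Type u) [CommRing A]

/-- The change of variables. -/
noncomputable def θ : MvPolynomial (Fin 9) A ≃ₐ[A] Lie3Mod.D A :=
  AlgEquiv.ofAlgHom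
    (aeval ![X 0 - X 8, X 1 + X 5, X 3 + X 7, X 7, X 8, X 1, X 6, X 4, X 2])
    (aeval ![X 0 + X 4, X 5, X 8, X 2 - X 3, X 7, X 1 - X 5, X 6, X 3, X 4])
    (by ext j : 1; fin_cases j <;> simp)
    (by ext j : 1; fin_cases j <;> simp)

theorem θ_gen :
    θ A (q1 A) = Lie3Mod.Q1 A ∧ θ A (q2 A) = Lie3Mod.Q2 A ∧ θ A (q3 A) = Lie3Mod.Q3 A ∧
      θ A (dt A) = Lie3Mod.detM A ∧ θ A (X 0) = Lie3Mod.L1 A ∧ θ A (X 1) = Lie3Mod.L2 A ∧
      θ A (X 2) = Lie3Mod.L3 A := by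
  refine ⟨?_, ?_, ?_, ?_, ?_, ?_, ?_⟩ <;>
    simp [θ, q1, q2, q3, dt, Lie3Mod.Q1, Lie3Mod.Q2, Lie3Mod.Q3, Lie3Mod.detM, Lie3Mod.L1,
      Lie3Mod.L2, Lie3Mod.L3] <;> ring

theorem comap_θ (P : Ideal (MvPolynomial (Fin 9) A)) : P.comap (θ A).symm = P.map (θ A) := by
  ext p
  rw [Ideal.mem_comap]
  refine ⟨fun h => ?_, fun h => ?_⟩
  · have := Ideal.mem_map_of_mem (θ A) h
    simpa using this
  · obtain ⟨x, hx, rfl⟩ := (Ideal.mem_map_iff_of_surjective _ (θ A).surjective).mp h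
    simpa using hx

theorem idI_eq : Lie3Mod.idI A = (I A).comap (θ A).symm := by
  obtain ⟨h1, h2, h3, -, -, -, -⟩ := θ_gen A
  rw [comap_θ, I, Ideal.map_span, Lie3Mod.idI]
  simp [Set.image_insert_eq, h1, h2, h3]

theorem idJ_eq : Lie3Mod.idJ A = (J A).comap (θ A).symm := by
  obtain ⟨h1, h2, h3, h4, -, -, -⟩ := θ_gen A
  rw [comap_θ, J, Ideal.map_span, Lie3Mod.idJ]
  simp [Set.image_insert_eq, h1, h2, h3, h4]

theorem idL_eq : Lie3Mod.idL A = (L A).comap (θ A).symm := by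
  obtain ⟨-, -, -, -, h1, h2, h3⟩ := θ_gen A
  rw [comap_θ, L, Ideal.map_span, Lie3Mod.idL]
  simp [Set.image_insert_eq, h1, h2, h3]

theorem mem_idI {p : Lie3Mod.D A} : p ∈ Lie3Mod.idI A ↔ (θ A).symm p ∈ I A := by rw [idI_eq]; rfl
theorem mem_idJ {p : Lie3Mod.D A} : p ∈ Lie3Mod.idJ A ↔ (θ A).symm p ∈ J A := by rw [idJ_eq]; rfl
theorem mem_idL {p : Lie3Mod.D A} : p ∈ Lie3Mod.idL A ↔ (θ A).symm p ∈ L A := by rw [idL_eq]; rfl

theorem idI_eq_inf : Lie3Mod.idI A = Lie3Mod.idJ A ⊓ Lie3Mod.idL A := by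
  rw [idI_eq, idJ_eq, idL_eq, I_eq_inf, Ideal.comap_inf]

theorem colon_idI_idL [_root_.IsReduced A] :
    (Lie3Mod.idI A).colon (Lie3Mod.idL A : Set (Lie3Mod.D A)) = Lie3Mod.idJ A := by
  ext x
  simp only [Submodule.mem_colon, SetLike.mem_coe, mem_idI, mem_idL, mem_idJ, smul_eq_mul, map_mul]
  rw [← colon_I_L, Submodule.mem_colon]
  refine ⟨fun h s hs => ?_, fun h s hs => h _ hs⟩
  have := h (θ A s) (by simpa using hs)
  simpa using this

theorem colon_idI_idJ :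
    (Lie3Mod.idI A).colon (Lie3Mod.idJ A : Set (Lie3Mod.D A)) = Lie3Mod.idL A := by
  ext x
  simp only [Submodule.mem_colon, SetLike.mem_coe, mem_idI, mem_idL, mem_idJ, smul_eq_mul, map_mul]
  rw [← colon_I_J, Submodule.mem_colon]
  refine ⟨fun h s hs => ?_, fun h s hs => h _ hs⟩
  have := h (θ A s) (by simpa using hs)
  simpa using this

variable [IsDomain A]

theorem idJ_isPrime : (Lie3Mod.idJ A).IsPrime := by
  rw [idJ_eq]
  have := J_isPrime (A := A)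
  exact Ideal.comap_isPrime _ _

theorem idL_isPrime : (Lie3Mod.idL A).IsPrime := by
  rw [idL_eq]
  have := L_isPrime (A := A)
  exact Ideal.comap_isPrime _ _

theorem minimal_aux {R : Type*} [CommRing R] {P Q : Ideal R} [P.IsPrime] (I' : Ideal R)
    (hI : I' = P ⊓ Q) (hQP : ¬ Q ≤ P) : P ∈ I'.minimalPrimes := by
  refine ⟨⟨‹_›, hI ▸ inf_le_left⟩, fun R' ⟨hR, hle⟩ hRP => ?_⟩
  subst hI
  rcases hR.mul_le.mp (Ideal.mul_le_inf.trans hle) with h | h
  · exact h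
  · exact absurd (h.trans hRP) hQP

theorem idL_mem_minimalPrimes : Lie3Mod.idL A ∈ (Lie3Mod.idI A).minimalPrimes := by
  have := idL_isPrime A
  refine minimal_aux _ ((idI_eq_inf A).trans (inf_comm _ _)) fun h => dt_not_mem_L (A := A) ?_
  have h1 : θ A (dt A) ∈ Lie3Mod.idJ A := by rw [mem_idJ]; simpa using dt_mem A
  simpa [mem_idL] using h h1

theorem idJ_mem_minimalPrimes : Lie3Mod.idJ A ∈ (Lie3Mod.idI A).minimalPrimes := by
  have := idJ_isPrime A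
  refine minimal_aux _ (idI_eq_inf A) fun h => X0_not_mem_J (A := A) ?_
  have h1 : θ A (X 0) ∈ Lie3Mod.idL A := by rw [mem_idL]; simpa using X0_mem A
  simpa [mem_idJ] using h h1

theorem idI_isRadical : (Lie3Mod.idI A).IsRadical := by
  rw [idI_eq_inf]
  exact (idJ_isPrime A).isRadical.inf (idL_isPrime A).isRadical

omit [IsDomain A] in
theorem flat_quotient (Q : Ideal (Lie3Mod.D ℤ))
    (h : ∀ (n : ℤ) (x : Lie3Mod.D ℤ), n ≠ 0 → C n * x ∈ Q → x ∈ Q) :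
    Module.Flat ℤ (Lie3Mod.D ℤ ⧸ Q) := by
  rw [IsDedekindDomain.flat_iff_torsion_eq_bot, Submodule.eq_bot_iff]
  intro y hy
  obtain ⟨n, hn⟩ := Submodule.mem_torsion_iff _ |>.mp hy
  obtain ⟨x, rfl⟩ := Ideal.Quotient.mk_surjective y
  refine Ideal.Quotient.eq_zero_iff_mem.mpr (h n x (nonZeroDivisors.coe_ne_zero n) ?_)
  rw [← Ideal.Quotient.eq_zero_iff_mem, map_mul]
  rw [Submonoid.smul_def, zsmul_eq_mul] at hn
  simpa using hn

omit [IsDomain A] in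
theorem flat_idJ : Module.Flat ℤ (Lie3Mod.D ℤ ⧸ Lie3Mod.idJ ℤ) :=
  flat_quotient _ fun n x hn h => by
    rw [mem_idJ, map_mul] at h
    rw [mem_idJ]
    exact ((J_isPrime (A := ℤ)).mem_or_mem h).resolve_left (by simpa using C_not_mem_J (A := ℤ) hn)

omit [IsDomain A] in
theorem flat_idI : Module.Flat ℤ (Lie3Mod.D ℤ ⧸ Lie3Mod.idI ℤ) :=
  flat_quotient _ fun n x hn h => by
    rw [idI_eq_inf] at h ⊢
    obtain ⟨hJ, hL⟩ := h
    rw [SetLike.mem_coe, mem_idJ, map_mul] at hJ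
    rw [SetLike.mem_coe, mem_idL, map_mul] at hL
    refine ⟨?_, ?_⟩
    · rw [SetLike.mem_coe, mem_idJ]
      exact ((J_isPrime (A := ℤ)).mem_or_mem hJ).resolve_left (by simpa using C_not_mem_J (A := ℤ) hn)
    · rw [SetLike.mem_coe, mem_idL]
      exact ((L_isPrime (A := ℤ)).mem_or_mem hL).resolve_left (by simpa using C_not_mem_L (A := ℤ) hn)

end GrothLib.Lie3
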